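import Groth.Agent.FieldPow.Tangent
import Groth.Agent.FieldPow.Etale
import Groth.Agent.GrpField.FlatPoint
import Groth.Agent.LimDesc.FPCancel
import Groth.Agent.CurveFF.Basic
import Groth.Agent.EtaleSections.Finite

/-!
# Homomorphisms of one-dimensional group varieties and tangent vectors at the unit
-/

set_option autoImplicit false
set_option linter.style.haveILetI false
set_option backward.isDefEq.respectTransparency false
set_option synthInstance.maxHeartbeats 400000

universe u

open CategoryTheory CategoryTheory.Limits MonoidalCategory CartesianMonoidalCategory MonObj GrpObj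
open AlgebraicGeometry
open scoped CategoryTheory.Obj

namespace Groth.Agent.SepIsog

open FieldPow

variable {K : Type u} [Field K] {G H : Over (Spec (CommRingCat.of K))} [GrpObj G] [GrpObj H]

/-- Transport along a representative of the stalk map. -/
theorem stalk_transport {X Y : Scheme.{u}} {f : X ⟶ Y} {x : X} {y : Y} (hy : f x = y)
    (χ : Y.presheaf.stalk y ⟶ X.presheaf.stalk x)
    (hχ : Spec.map χ ≫ Y.fromSpecStalk y = X.fromSpecStalk x ≫ f) :
    ((IsLocalRing.maximalIdeal (Y.presheaf.stalk (f x))).map (f.stalkMap x).hom = IsLocalRing.maximalIdeal _ ↔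
      (IsLocalRing.maximalIdeal (Y.presheaf.stalk y)).map χ.hom = IsLocalRing.maximalIdeal _) ∧
    ((∀ a, ∃ b, a - (f.stalkMap x).hom b ∈ IsLocalRing.maximalIdeal (X.presheaf.stalk x)) ↔
      (∀ a, ∃ b, a - χ.hom b ∈ IsLocalRing.maximalIdeal (X.presheaf.stalk x))) ∧
    ((f.stalkMap x).hom.Flat ↔ χ.hom.Flat) := by
  subst hy
  obtain rfl : χ = f.stalkMap x := Spec.map_injective
    ((cancel_mono (Y.fromSpecStalk (f x))).1 (hχ.trans (Scheme.SpecMap_stalkMap_fromSpecStalk f).symm))
  exact ⟨Iff.rfl, Iff.rfl, Iff.rfl⟩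

variable (f : G ⟶ H) [IsMonHom f]

theorem hom_ept : f.left (ept G) = ept H := by
  show (η[G].left ≫ f.left) _ = _
  rw [← Over.comp_left, IsMonHom.one_hom]

theorem exists_χ : ∃ χ : O H ⟶ O G,
    Spec.map χ ≫ H.left.fromSpecStalk (ept H) = G.left.fromSpecStalk (ept G) ≫ f.left :=
  Cartier.exists_Spec_map_fromSpecStalk (A := O G) (G.left.fromSpecStalk (ept G) ≫ f.left) (by
    rw [Scheme.Hom.comp_apply, Scheme.fromSpecStalk_closedPoint, hom_ept])

/-- The map of local rings at the unit. -/
noncomputable def χ : O H ⟶ O G := (exists_χ f).choose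

theorem map_χ : Spec.map (χ f) ≫ H.left.fromSpecStalk (ept H) = G.left.fromSpecStalk (ept G) ≫ f.left :=
  (exists_χ f).choose_spec

theorem χ_εc (a : O H) : (εc G).hom ((χ f).hom a) = (εc H).hom a := by
  have h : χ f ≫ εc G = εc H := Spec.map_injective ((cancel_mono (H.left.fromSpecStalk (ept H))).1 (by
    rw [Spec.map_comp, Category.assoc, map_χ, reassoc_of% map_εc G, map_εc, ← Over.comp_left, IsMonHom.one_hom]))
  exact congrArg (fun k => k.hom a) h

theorem χ_ic (c : K) : (χ f).hom ((ic H).hom c) = (ic G).hom c := by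
  have h : ic H ≫ χ f = ic G := Spec.map_injective (by
    rw [Spec.map_comp, map_ic, reassoc_of% map_χ f, Over.w f, map_ic])
  exact congrArg (fun k => k.hom c) h

variable {M : Type u} [AddCommGroup M] [Module K M] [Module Kᵐᵒᵖ M] [IsCentralScalar K M]

theorem rep_comp {P : tob K M ⟶ G} {δ : O G → M} (hP : Rep P δ) :
    Rep (P ≫ f) (fun a => δ ((χ f).hom a)) := by
  obtain ⟨φ, hφ, hf, hs⟩ := hP
  refine ⟨χ f ≫ φ, ?_, fun a => (hf _).trans (χ_εc f a), fun a => hs _⟩
  rw [Spec.map_comp, Category.assoc, map_χ, ← Category.assoc, hφ, Over.comp_left]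

theorem rep_eq_one_iff {P : tob K M ⟶ G} {δ : O G → M} (hP : Rep P δ) : P = 1 ↔ ∀ a, δ a = 0 :=
  ⟨fun h => by subst h; exact fun a => congrFun (hP.unique rep_one) a, fun h => by
    obtain rfl : δ = fun _ => 0 := funext h
    exact hP.ext rep_one⟩

theorem rep_leibniz {P : tob K M ⟶ G} {δ : O G → M} (hP : Rep P δ) (a b : O G) :
    δ (a * b) = (εc G).hom a • δ b + (εc G).hom b • δ a ∧ δ (a + b) = δ a + δ b ∧ ∀ c, δ ((ic G).hom c) = 0 := by
  obtain ⟨φ, hφ, hf, hs⟩ := hP
  refine ⟨?_, ?_, fun c => ?_⟩
  · rw [← hs, ← hs, ← hs, map_mul, ← hf a, ← hf b]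
    exact (TrivSqZeroExt.snd_mul _ _).trans (congrArg _ (op_smul_eq_smul _ _))
  · rw [← hs, ← hs, ← hs, map_add]
    exact TrivSqZeroExt.snd_add _ _
  · have h : ic G ≫ φ = CommRingCat.ofHom (TrivSqZeroExt.inlHom K M) := Spec.map_injective (by
      rw [Spec.map_comp, map_ic, reassoc_of% hφ]
      exact Over.w P)
    rw [← hs, show φ.hom ((ic G).hom c) = TrivSqZeroExt.inl c from congrArg (fun k => k.hom c) h]
    exact TrivSqZeroExt.snd_inl _ _

/-- A homomorphism unramified at the unit is injective on tangent vectors. -/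
theorem rep_eq_zero_of_map_eq (h : (IsLocalRing.maximalIdeal (O H)).map (χ f).hom = IsLocalRing.maximalIdeal (O G))
    {P : tob K M ⟶ G} {δ : O G → M} (hP : Rep P δ) (h0 : ∀ a, δ ((χ f).hom a) = 0) (a : O G) : δ a = 0 := by
  have hm : ∀ x ∈ IsLocalRing.maximalIdeal (O G), δ x = 0 := by
    intro x hx
    rw [← h] at hx
    induction hx using Submodule.span_induction with
    | mem x hx => obtain ⟨y, -, rfl⟩ := hx; exact h0 y
    | zero => simpa using h0 0
    | add x y _ _ hx hy => rw [(rep_leibniz hP x y).2.1, hx, hy, add_zero]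
    | smul r x hmem hx =>
      rw [smul_eq_mul, (rep_leibniz hP r x).1, hx, smul_zero, zero_add,
        show (εc G).hom x = 0 from ?_, zero_smul]
      rw [← RingHom.mem_ker, ker_εc, ← h]
      exact hmem
  have e : a = (a - (ic G).hom ((εc G).hom a)) + (ic G).hom ((εc G).hom a) := by ring
  rw [e, (rep_leibniz hP _ _).2.1, (rep_leibniz hP a a).2.2, add_zero, hm]
  rw [← ker_εc, RingHom.mem_ker, map_sub, εc_ic, sub_self]

/-- A homomorphism injective on tangent vectors generates the maximal ideal at the unit. -/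
theorem map_eq_of_injective [LocallyOfFiniteType G.hom]
    (hinj : ∀ P : tob K K ⟶ G, tzero K K ≫ P = 1 → P ≫ f = 1 → P = 1) :
    (IsLocalRing.maximalIdeal (O H)).map (χ f).hom = IsLocalRing.maximalIdeal (O G) := by
  have : IsLocallyNoetherian G.left := LocallyOfFiniteType.isLocallyNoetherian G.hom
  set m := IsLocalRing.maximalIdeal (O G)
  set J := (IsLocalRing.maximalIdeal (O H)).map (χ f).hom
  have hJ : J ≤ m := Ideal.map_le_iff_le_comap.2 fun x hx => by
    rw [Ideal.mem_comap, show m = _ from (ker_εc G).symm, RingHom.mem_ker, χ_εc, ← RingHom.mem_ker, ker_εc]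
    exact hx
  refine le_antisymm hJ ?_
  refine Submodule.le_of_le_smul_of_le_jacobson_bot (IsNoetherian.noetherian m)
    (IsLocalRing.maximalIdeal_le_jacobson _) (fun b hb => ?_)
  let : Algebra K (O G) := (ic G).hom.toAlgebra
  have hm : ∀ a, a - (ic G).hom ((εc G).hom a) ∈ m := fun a => by
    rw [show m = _ from (ker_εc G).symm, RingHom.mem_ker, map_sub, εc_ic, sub_self]
  by_contra hne
  let V : Submodule K (O G) := (J ⊔ m • m).restrictScalars K ⊔ Submodule.span K {(1 : O G)}
  have hbV : b ∉ V := by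
    intro hb'
    obtain ⟨x, hx, y, hy, e⟩ := Submodule.mem_sup.1 hb'
    obtain ⟨c, rfl⟩ := Submodule.mem_span_singleton.1 hy
    rw [Submodule.restrictScalars_mem] at hx
    have hb0 : (εc G).hom b = 0 := by rw [← RingHom.mem_ker, ker_εc]; exact hb
    have hx0 : (εc G).hom x = 0 := by
      rw [← RingHom.mem_ker, ker_εc]
      exact (sup_le hJ (Submodule.smul_le_right : m • m ≤ m)) hx
    have hc : c = 0 := by
      have h := congrArg (εc G).hom e
      rw [map_add, hb0, hx0, zero_add, Algebra.smul_def, _root_.mul_one] at h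
      exact (εc_ic G c).symm.trans h
    rw [hc, zero_smul, add_zero] at e
    exact hne (e ▸ hx)
  obtain ⟨l, hlb, hlV⟩ := Submodule.exists_dual_map_eq_bot_of_notMem hbV inferInstance
  have hl0 : ∀ x ∈ V, l x = 0 := fun x hx => by
    have := Submodule.mem_map_of_mem (f := l) hx
    rwa [hlV] at this
  have hli : ∀ c, l ((ic G).hom c) = 0 := fun c => hl0 _ (Submodule.mem_sup_right
    (Submodule.mem_span_singleton.2 ⟨c, by rw [Algebra.smul_def, _root_.mul_one]; rfl⟩))
  have hδ : ∀ x y, l (x * y) = (εc G).hom x • l y + (εc G).hom y • l x := by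
    intro x y
    have h0 : l ((x - (ic G).hom ((εc G).hom x)) * (y - (ic G).hom ((εc G).hom y))) = 0 :=
      hl0 _ (Submodule.mem_sup_left (by
        rw [Submodule.restrictScalars_mem]
        exact Submodule.mem_sup_right (Ideal.mul_mem_mul (hm x) (hm y))))
    have e : x * y = (εc G).hom x • y + (εc G).hom y • x
        - (ic G).hom ((εc G).hom x * (εc G).hom y)
        + (x - (ic G).hom ((εc G).hom x)) * (y - (ic G).hom ((εc G).hom y)) := by
      simp only [Algebra.smul_def, RingHom.algebraMap_toAlgebra, map_mul]; ring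
    rw [e, map_add, map_sub, map_add, map_smul, map_smul, h0, hli, sub_zero, add_zero]
  obtain ⟨P, hP⟩ := exists_rep_derivation (M := K) l.toAddMonoidHom hδ hli
  have h1 : P ≫ f = 1 := (rep_eq_one_iff (rep_comp f hP)).2 fun a => by
    show l ((χ f).hom a) = 0
    have : a = (a - (ic H).hom ((εc H).hom a)) + (ic H).hom ((εc H).hom a) := by ring
    rw [this, map_add, map_add, χ_ic, hli, add_zero]
    refine hl0 _ (Submodule.mem_sup_left ?_)
    rw [Submodule.restrictScalars_mem]
    refine Submodule.mem_sup_left (Ideal.mem_map_of_mem _ ?_)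
    rw [← ker_εc, RingHom.mem_ker, map_sub, εc_ic, sub_self]
  exact hlb ((rep_eq_one_iff hP).1 (hinj P hP.tzero h1) b)

section Curve

variable [IsIntegral G.left] [IsIntegral H.left]
  (hG : Curve.IsSmoothProperCurve K G.left G.hom) (hH : Curve.IsSmoothProperCurve K H.left H.hom)

theorem isClosed_ept {X : Over (Spec (CommRingCat.of K))} [GrpObj X] [IsSeparated X.hom] :
    IsClosed ({ept X} : Set X.left) := by
  have : Subsingleton (Spec (CommRingCat.of K)) := inferInstanceAs (Subsingleton (PrimeSpectrum K))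
  have h := (η[X].left).isClosedEmbedding.isClosedMap {IsLocalRing.closedPoint K}
    ((Set.subsingleton_of_subsingleton (s := ({IsLocalRing.closedPoint K} : Set (Spec (CommRingCat.of K))))).isClosed)
  have h2 : η[X].left '' {(IsLocalRing.closedPoint K : Spec (CommRingCat.of K))} = ({ept X} : Set X.left) :=
    Set.image_singleton
  rwa [h2] at h

include hG hH in
/-- A homomorphism of curves injective on tangent vectors is an étale isogeny. -/
theorem etale_of_injective
    (hinj : ∀ P : tob K K ⟶ G, tzero K K ≫ P = 1 → P ≫ f = 1 → P = 1) :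
    IsFinite f.left ∧ Surjective f.left ∧ Etale f.left := by
  haveI := hG.1; haveI := hH.1; haveI := hG.2.1
  haveI : Subsingleton (Spec (CommRingCat.of K)) := inferInstanceAs (Subsingleton (PrimeSpectrum K))
  haveI : IsLocallyNoetherian G.left := LocallyOfFiniteType.isLocallyNoetherian G.hom
  haveI : IsLocallyNoetherian H.left := LocallyOfFiniteType.isLocallyNoetherian H.hom
  haveI : LocallyOfFinitePresentation f.left := by
    have : LocallyOfFinitePresentation (f.left ≫ H.hom) := by rw [Over.w f]; infer_instance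
    exact Groth.Agent.LimDesc.lfp_of_comp f.left H.hom
  haveI hdG := CurveFF.stalk_dvr hG (isClosed_ept (X := G))
  haveI hdH := CurveFF.stalk_dvr hH (isClosed_ept (X := H))
  have hmap := map_eq_of_injective f hinj
  obtain ⟨hmt, hst, hft⟩ := stalk_transport (hom_ept f) (χ f) (map_χ f)
  have hinjχ : Function.Injective (χ f).hom := by
    rw [RingHom.injective_iff_ker_eq_bot]
    by_contra hne
    have : (RingHom.ker (χ f).hom).IsPrime := RingHom.ker_isPrime _
    have hmax := IsLocalRing.eq_maximalIdeal (this.isMaximal hne)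
    have h0 : IsLocalRing.maximalIdeal (O G) = ⊥ := by
      rw [← hmap, Ideal.map_eq_bot_iff_le_ker, hmax]
    exact IsDiscreteValuationRing.not_a_field _ h0
  have hflat : (f.left.stalkMap (ept G)).hom.Flat := hft.2 (by
    algebraize [(χ f).hom]
    have : Module.IsTorsionFree (O H) (O G) := by
      rw [Module.isTorsionFree_iff_algebraMap_injective]
      exact hinjχ
    exact RingHom.flat_algebraMap_iff.2 inferInstance)
  have hu : (f.left.stalkMap (ept G)).hom.FormallyUnramified := by
    have h1 := hmt.2 hmap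
    have h2 := hst.2 fun a => ⟨(ic H).hom ((εc G).hom a), by
      rw [χ_ic, ← ker_εc, RingHom.mem_ker, map_sub, εc_ic, sub_self]⟩
    algebraize [(f.left.stalkMap (ept G)).hom]
    let R := H.left.presheaf.stalk (f.left (ept G))
    have : IsLocalHom (algebraMap R (O G)) := inferInstanceAs (IsLocalHom (f.left.stalkMap (ept G)).hom)
    have : Algebra.EssFiniteType R (O G) := by
      rw [← RingHom.essFiniteType_algebraMap]
      exact LocallyOfFiniteType.stalkMap f.left (ept G)
    have hbij : Function.Surjective (algebraMap (IsLocalRing.ResidueField R) (IsLocalRing.ResidueField (O G))) := by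
      intro z
      obtain ⟨a, rfl⟩ := IsLocalRing.residue_surjective z
      obtain ⟨b, hb⟩ := h2 a
      refine ⟨IsLocalRing.residue R b, ?_⟩
      have h := (IsLocalRing.residue_eq_zero_iff _).2 hb
      rw [map_sub, sub_eq_zero] at h
      exact h.symm
    have : Algebra.IsSeparable (IsLocalRing.ResidueField R) (IsLocalRing.ResidueField (O G)) :=
      ⟨fun z => by
        obtain ⟨y, rfl⟩ := hbij z
        exact isSeparable_algebraMap y⟩
    exact Algebra.FormallyUnramified.of_map_maximalIdeal h1
  obtain ⟨U, hxU, hU⟩ := exists_etale_nhd f.left (ept G) hflat hu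
  have : FormallyUnramified f.left := formallyUnramified_of_nhd f U fun p => by
    obtain rfl : p = (IsLocalRing.closedPoint K : Spec (CommRingCat.of K)) :=
      @Subsingleton.elim _ (inferInstanceAs (Subsingleton (PrimeSpectrum K))) _ _
    exact hxU
  haveI : Flat f.left := GrpField.flat_of_flat_stalkMap f hflat
  haveI : Etale f.left := Etale.of_formallyUnramified_of_flat _
  haveI : IsProper f.left := by
    have : IsProper (f.left ≫ H.hom) := by rw [Over.w f]; infer_instance
    exact IsProper.of_comp f.left H.hom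
  haveI := EtaleSections.locallyQuasiFinite_of_unramified f.left
  refine ⟨IsFinite.of_isProper_of_locallyQuasiFinite f.left, ⟨fun y => ?_⟩, inferInstance⟩
  have hr : Set.range f.left = Set.univ :=
    IsClopen.eq_univ ⟨f.left.isClosedMap.isClosed_range, f.left.isOpenMap.isOpen_range⟩ ⟨_, ept G, rfl⟩
  exact hr.ge (Set.mem_univ y)

include hG in
/-- The tangent space at the unit of a curve is a line. -/
theorem eq_one_of_killed [IsAlgClosed K] {f₀ : G ⟶ H} [IsMonHom f₀] {P : tob K K ⟶ G}
    (hP : tzero K K ≫ P = 1) (hP1 : P ≠ 1) (hPf : P ≫ f₀ = 1)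
    (Q : tob K K ⟶ G) (hQ : tzero K K ≫ Q = 1) : Q ≫ f₀ = 1 := by
  haveI := hG.1; haveI := hG.2.1
  haveI hdG := CurveFF.stalk_dvr hG (isClosed_ept (X := G))
  obtain ⟨δ, hδ⟩ := exists_rep hP
  obtain ⟨δ', hδ'⟩ := exists_rep hQ
  obtain ⟨t, ht⟩ := IsDiscreteValuationRing.exists_irreducible (O G)
  have htm : IsLocalRing.maximalIdeal (O G) = Ideal.span {t} := ht.maximalIdeal_eq
  have hval : ∀ {d : O G → K} {R : tob K K ⟶ G}, Rep R d → ∀ a, ∃ e : K, ∀ c : K, d t = c * δ t → d a = c * δ a ∧ d a = e * d t := by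
    intro d R hR a
    obtain ⟨s, hs⟩ := Ideal.mem_span_singleton'.1 (show a - (ic G).hom ((εc G).hom a) ∈ Ideal.span {t} by
      rw [← htm, ← ker_εc, RingHom.mem_ker, map_sub, εc_ic, sub_self])
    have ht0 : (εc G).hom t = 0 := by
      rw [← RingHom.mem_ker, ker_εc, htm]
      exact Ideal.mem_span_singleton_self t
    have key : ∀ {d : O G → K} {R : tob K K ⟶ G}, Rep R d → d a = (εc G).hom s * d t := by
      intro d R hR
      have e : a = s * t + (ic G).hom ((εc G).hom a) := by rw [hs]; ring
      conv_lhs => rw [e]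
      rw [(rep_leibniz hR _ _).2.1, (rep_leibniz hR s t).1, (rep_leibniz hR a a).2.2, ht0]
      simp
    exact ⟨(εc G).hom s, fun c hc => ⟨by rw [key hR, key hδ, hc]; ring, key hR⟩⟩
  have hδt : δ t ≠ 0 := fun h0 => hP1 ((rep_eq_one_iff hδ).2 fun a => by
    obtain ⟨e, he⟩ := hval hδ a
    rw [(he 1 (_root_.one_mul _).symm).2, h0, mul_zero])
  set c := δ' t / δ t
  have hQP : Q = tmap K (c • (LinearMap.id : K →ₗ[K] K)) ≫ P := by
    refine hδ'.ext ?_
    convert hδ.map (c • (LinearMap.id : K →ₗ[K] K)) using 1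
    funext a
    obtain ⟨e, he⟩ := hval hδ' a
    exact (he c (div_mul_cancel₀ _ hδt).symm).1
  rw [hQP, Category.assoc, hPf, MonObj.comp_one]

end Curve

end Groth.Agent.SepIsog
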